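import Cfsg.Agent.H96.OrthDecTwo.Main
import Cfsg.Agent.H98.OrthMax.NondegWrap

/-!
The stabiliser of an isometric orthogonal decomposition into blocks of dimension at least three is maximal.
-/

set_option autoImplicit false

namespace Cfsg.Agent.H96.OrthDecTwo

open QuadraticMap Module Cfsg.Agent.Orthogonal

variable {F : Type*} [Field F] [Fintype F] {n : ℕ} {Q : QuadraticForm F (Fin n → F)} {t k : ℕ}
  {D : Fin t → Submodule F (Fin n → F)}

theorem isPlusTypeOn_of_pair (W : Submodule F (Fin n → F)) (h4 : finrank F W = 4) {u w : Fin n → F}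
    (hu : u ∈ W) (hw : w ∈ W) (hqu : Q u = 0) (hqw : Q w = 0) (huw : polar Q u w = 0) (hu0 : u ≠ 0)
    (hne : w ∉ Submodule.span F {u}) : Cfsg.Geo.IsPlusTypeOn Q W := by
  refine ⟨Submodule.span F {u, w}, ?_, fun x hx => ?_, ?_⟩
  · rw [Submodule.span_le]
    rintro x (rfl | rfl) <;> assumption
  · obtain ⟨a, b, rfl⟩ := Submodule.mem_span_pair.1 hx
    rw [map_add_polar, qmap_smul, qmap_smul, polar_smul_left', polar_smul_right', hqu, hqw, huw]
    ring
  · have hli : LinearIndependent F ![u, w] := LinearIndependent.pair_iff.2 fun a b e => by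
      rcases eq_or_ne b 0 with rfl | hb
      · exact ⟨(smul_eq_zero.1 (by simpa using e)).resolve_right hu0, rfl⟩
      · refine absurd (Submodule.mem_span_singleton.2 ⟨-(a / b), ?_⟩) hne
        linear_combination (norm := skip) (-b⁻¹) • e
        match_scalars <;> field_simp <;> ring
    have h := finrank_span_eq_card hli
    rw [show Set.range ![u, w] = {u, w} from Matrix.range_cons_cons_empty u w ![], Fintype.card_fin] at h
    rw [h, h4]

/-- Plus type is preserved by isometry. -/
theorem isPlusTypeOn_of_isometry (hd : ∀ i, finrank F (D i) = k) {i j : Fin t} (e : D i ≃ₗ[F] D j)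
    (he : ∀ w, Q ((e w : D j) : Fin n → F) = Q (w : Fin n → F)) (h : Cfsg.Geo.IsPlusTypeOn Q (D i)) :
    Cfsg.Geo.IsPlusTypeOn Q (D j) := by
  obtain ⟨U, hU, hUs, hUd⟩ := h
  refine ⟨((U.comap (D i).subtype).map e.toLinearMap).map (D j).subtype, Submodule.map_subtype_le _ _, ?_, ?_⟩
  · rintro w ⟨y, ⟨x, hx, rfl⟩, rfl⟩
    exact (he x).trans (hUs x hx)
  · rw [Submodule.finrank_map_subtype_eq, LinearEquiv.finrank_map_eq,
      (Submodule.comapSubtypeEquivOfLe hU).finrank_eq, hUd, hd i, hd j]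

/-- Maximality for isometric orthogonal decompositions with blocks of dimension at least three. -/
theorem isMaximalIn_mdecomp (hn : 13 ≤ n) (hQ : Nondeg Q) (hD : Cfsg.Geo.IsOrthogonalMDecomposition (⇑Q) k D)
    (hk : 3 ≤ k) (hodd : Odd k → Odd (Fintype.card F)) (h3 : k = 3 → Fintype.card F ≠ 3)
    (h4 : k = 4 → Fintype.card F = 2 → ∀ i, ¬ Cfsg.Geo.IsPlusTypeOn Q (D i)) :
    Cfsg.Geo.IsMaximalIn (Cfsg.Geo.omegaGL ⇑Q) (Cfsg.Geo.decompositionStabilizer D ⊓ Cfsg.Geo.omegaGL ⇑Q) := by
  classical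
  have hM := hD.decomp.decomp
  have htk : n = t * k := by
    have hint : DirectSum.IsInternal D :=
      DirectSum.isInternal_submodule_of_iSupIndep_of_iSup_eq_top hM.indep hM.iSup_eq_top
    have h := (LinearEquiv.ofBijective (DirectSum.coeLinearMap D) hint).finrank_eq
    rw [Module.finrank_directSum, Module.finrank_fin_fun] at h
    simpa [hM.finrank_eq] using h.symm
  have hnd := fun i => H98.OrthMax.nondeg_restr_of_nondegenerateOn (hD.decomp.nondegenerate i)
  have horth := fun i j (hij : i ≠ j) x hx y hy => hD.decomp.orthogonal i j hij x hx y hy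
  by_cases hbig : 6 ≤ k ∨ (k = 4 ∧ (2 : F) = 0)
  · refine Cfsg.Agent.H96.OrthDecTwo.isMaximalIn_decomp (Q := Q) ⟨by omega, hM.two_le, hbig.imp_right fun h => Or.inl h.2,
      fun hk6 _ => ?_, hM.finrank_eq, hnd, horth, fun _ i j => hD.isometric i j, hM.iSup_eq_top, hQ⟩
    have hk4 : k = 4 := (hbig.resolve_left (by omega)).1
    refine or_iff_not_imp_left.2 fun hs i u hu w hw hqu hqw huw hu0 => ?_
    by_contra hne
    push Not at hs
    have hsub : (Finset.univ : Finset F) ⊆ {0, 1} := fun s _ => by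
      rcases eq_or_ne s 0 with rfl | hs0
      · simp
      · simp [hs s hs0]
    have h2 := (Finset.card_le_card hsub).trans Finset.card_le_two
    rw [Finset.card_univ] at h2
    have := Fintype.one_lt_card (α := F)
    exact h4 hk4 (by omega) i
      (isPlusTypeOn_of_pair (D i) ((hM.finrank_eq i).trans hk4) hu hw hqu hqw huw hu0 hne)
  push Not at hbig
  have hcard : (2 : F) = 0 → Even (Fintype.card F) := fun h => by
    have : CharP F 2 := CharTwo.of_one_ne_zero_of_two_eq_zero one_ne_zero h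
    exact Nat.even_iff.2 (FiniteField.even_card_iff_char_two.1 (ringChar.eq F 2))
  have h2 : (2 : F) ≠ 0 := by
    by_cases hk4 : k = 4
    · exact hbig.2 hk4
    · exact fun h => Nat.not_odd_iff_even.2 (hcard h) (hodd (Nat.odd_iff.2 (by omega)))
  have ht3 : 3 ≤ t := by
    by_contra hlt
    have : t * k ≤ 2 * 5 := Nat.mul_le_mul (by omega) (by omega)
    omega
  refine H98.OrthDecomp.isMaximalIn_decomp (Q := Q) ⟨h2, hk, ht3, fun hk3 => ?_, hM.finrank_eq, hnd, horth,
    fun i j => hD.isometric i j, hM.iSup_eq_top, hQ⟩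
  by_contra hs
  push Not at hs
  have hsub : (Finset.univ : Finset F) ⊆ {0, 1, -1} := fun s _ => by
    rcases eq_or_ne s 0 with rfl | hs0
    · simp
    · rcases sq_eq_one_iff.1 (hs s hs0) with e | e <;> simp [e]
  have hc := (Finset.card_le_card hsub).trans Finset.card_le_three
  rw [Finset.card_univ] at hc
  have := Fintype.one_lt_card (α := F)
  obtain ⟨j, hj⟩ := hodd (hk3 ▸ by decide)
  exact h3 hk3 (by omega)

end Cfsg.Agent.H96.OrthDecTwo

namespace Cfsg.Agent.H96.OrthDecTwo

open QuadraticMap Module Cfsg.Agent.Orthogonal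

/-- Maximality for a decomposition into two orthogonal halves of dimension at least five, isometric or not, odd
characteristic. -/
theorem isMaximalIn_halves {F : Type*} [Field F] [Fintype F] {n : ℕ} {Q : QuadraticForm F (Fin n → F)} {k : ℕ}
    {D : Fin 2 → Submodule F (Fin n → F)} (hQ : Nondeg Q) (h2 : (2 : F) ≠ 0) (hk : 5 ≤ k)
    (hD : Cfsg.Geo.IsNondegenerateMDecomposition (QuadraticMap.polar ⇑Q) k D) :
    Cfsg.Geo.IsMaximalIn (Cfsg.Geo.omegaGL ⇑Q) (Cfsg.Geo.decompositionStabilizer D ⊓ Cfsg.Geo.omegaGL ⇑Q) :=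
  Cfsg.Agent.H96.OrthDecTwo.isMaximalIn_decomp (Q := Q)
    ⟨by omega, le_rfl, Or.inr (Or.inr hk), fun _ h => absurd h h2, hD.decomp.finrank_eq,
      fun i => H98.OrthMax.nondeg_restr_of_nondegenerateOn (hD.nondegenerate i),
      fun i j hij x hx y hy => hD.orthogonal i j hij x hx y hy, fun h => absurd h (by omega), hD.decomp.iSup_eq_top, hQ⟩

end Cfsg.Agent.H96.OrthDecTwo
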