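import Cfsg.Agent.H98.OrthDecomp.Full

/-!
Orthogonal decompositions into isometric blocks of dimension at least four, any characteristic.
-/

set_option autoImplicit false

namespace Cfsg.Agent.H96.OrthDecTwo

open QuadraticMap Module Cfsg.Agent.Orthogonal
open Cfsg.Agent.H98.SubfieldOrth
open Cfsg.Agent.H98.OrthMax (rO_mul_mem)
open Cfsg.Agent.H98.OrthDecomp

variable {F V : Type*} [Field F] [AddCommGroup V] [Module F V]

/-- An orthogonal decomposition into blocks, isometric if at least three: dimension at least six, at least five in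
odd characteristic, or four in characteristic two with blocks of minus type when the field has two elements. -/
structure Dec (Q : QuadraticForm F V) {t : ℕ} (k : ℕ) (D : Fin t → Submodule F V) : Prop where
  hk : 4 ≤ k
  ht : 2 ≤ t
  hbig : 6 ≤ k ∨ (2 : F) = 0 ∨ 5 ≤ k
  minus : k < 6 → (2 : F) = 0 → (∃ s : F, s ≠ 0 ∧ s ≠ 1) ∨
    ∀ i, ∀ u ∈ D i, ∀ w ∈ D i, Q u = 0 → Q w = 0 → polar Q u w = 0 → u ≠ 0 → w ∈ Submodule.span F {u}
  rk : ∀ i, finrank F (D i) = k
  nd : ∀ i, Nondeg (F := F) (V := D i) (restr Q (D i))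
  orth : ∀ i j, i ≠ j → ∀ x ∈ D i, ∀ y ∈ D j, polar Q x y = 0
  isom : 3 ≤ t → ∀ i j, ∃ e : D i ≃ₗ[F] D j, ∀ w, Q ((e w : D j) : V) = Q (w : V)
  top : iSup D = ⊤
  nQ : Nondeg Q

variable {Q : QuadraticForm F V} {t k : ℕ} {D : Fin t → Submodule F V} {X : Subgroup (O Q)}

namespace Dec


variable [FiniteDimensional F V] (H : Dec Q k D)
include H

omit [FiniteDimensional F V] in
theorem pos (i : Fin t) : D i ≠ ⊥ := fun e => by
  have := H.rk i
  rw [e, finrank_bot] at this
  have := H.hk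
  omega

/-- The orthogonal projection onto a block. -/
noncomputable def pr (i : Fin t) : V →ₗ[F] V := (D i).projection (perp Q (D i)) (H.nQ.isCompl_perp (H.nd i))

theorem pr_mem (i : Fin t) (x : V) : H.pr i x ∈ D i := Submodule.projection_apply_mem _ x

theorem pr_self {i : Fin t} {x : V} (hx : x ∈ D i) : H.pr i x = x := Submodule.projection_apply_of_mem_left _ hx

theorem polar_sub_pr {i : Fin t} {y : V} (hy : y ∈ D i) (x : V) : polar Q y (x - H.pr i x) = 0 := by
  have h : x - H.pr i x ∈ perp Q (D i) := by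
    refine (Submodule.projection_apply_eq_zero_iff (H.nQ.isCompl_perp (H.nd i))).1 ?_
    show H.pr i (x - H.pr i x) = 0
    rw [map_sub, H.pr_self (H.pr_mem i x), sub_self]
  exact h y hy

theorem polar_pr {i : Fin t} {y : V} (hy : y ∈ D i) (x : V) : polar Q y (H.pr i x) = polar Q y x := by
  have := H.polar_sub_pr hy x
  rw [polar_sub_right, sub_eq_zero] at this
  exact this.symm

theorem pr_of_perp {i : Fin t} {x : V} (h : ∀ y ∈ D i, polar Q y x = 0) : H.pr i x = 0 :=
  (Submodule.projection_apply_eq_zero_iff (H.nQ.isCompl_perp (H.nd i))).2 h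

theorem pr_other {i j : Fin t} {x : V} (hx : x ∈ D j) (hij : i ≠ j) : H.pr i x = 0 :=
  H.pr_of_perp fun y hy => H.orth i j hij y hy x hx

theorem sum_pr (x : V) : ∑ i, H.pr i x = x := by
  refine H.nQ.eq_of_polar fun z => ?_
  have hz : z ∈ iSup D := H.top ▸ Submodule.mem_top
  induction hz using Submodule.iSup_induction' with
  | mem i y hy =>
    rw [polar_comm (⇑Q), polar_comm (⇑Q) x, ← polarBilin_apply', map_sum, Finset.sum_eq_single i]
    · rw [polarBilin_apply']; exact H.polar_pr hy x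
    · intro j _ hji
      rw [polarBilin_apply']
      exact H.orth i j hji.symm y hy _ (H.pr_mem j x)
    · exact fun h => absurd (Finset.mem_univ i) h
  | zero => rw [polar_zero_right, polar_zero_right]
  | add p r _ _ hp hr => rw [polar_add_right, polar_add_right, hp, hr]

theorem ext_pr {x y : V} (h : ∀ i, H.pr i x = H.pr i y) : x = y := by
  rw [← H.sum_pr x, ← H.sum_pr y, Finset.sum_congr rfl fun i _ => h i]

theorem polar_sum (x y : V) : polar Q x y = ∑ i, polar Q (H.pr i x) (H.pr i y) := by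
  conv_lhs => rw [← H.sum_pr y, ← polarBilin_apply', map_sum]
  refine Finset.sum_congr rfl fun i _ => ?_
  rw [polarBilin_apply', polar_comm, polar_comm (⇑Q) (H.pr i x), H.polar_pr (H.pr_mem i y)]

theorem exists_ne_of_wide {a : V} (ha : Wide D a) (i : Fin t) : ∃ j, j ≠ i ∧ H.pr j a ≠ 0 := by
  by_contra hc
  push Not at hc
  refine ha i ?_
  have : a = H.pr i a := H.ext_pr fun j => by
    rcases eq_or_ne j i with rfl | hj
    · rw [H.pr_self (H.pr_mem j a)]
    · rw [hc j hj, H.pr_other (H.pr_mem i a) hj]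
  rw [this]; exact H.pr_mem i a

theorem wide_of_two {a : V} {i j : Fin t} (hij : i ≠ j) (hi : H.pr i a ≠ 0) (hj : H.pr j a ≠ 0) : Wide D a := by
  intro l hl
  rcases eq_or_ne i l with rfl | hil
  · exact hj (H.pr_other hl hij.symm)
  · exact hi (H.pr_other hl hil)

theorem exists_pr_ne {a : V} (ha : a ≠ 0) : ∃ i, H.pr i a ≠ 0 := by
  by_contra hc
  push Not at hc
  exact ha (H.ext_pr fun i => by rw [hc i, map_zero])

omit [FiniteDimensional F V] in
theorem rO_block {i j : Fin t} {c : V} (hc : c ∈ D j) {v : V} (hv : v ∈ D i) :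
    (rO Q c : V ≃ₗ[F] V) v ∈ D i := by
  rcases eq_or_ne j i with rfl | hne
  · rw [rO_app]; exact (D j).sub_mem hv ((D j).smul_mem _ hc)
  · rw [rO_fix (H.orth j i hne c hc v hv)]; exact hv

variable (hX : Over D X)
include hX

theorem pair_mem {i j : Fin t} {c f : V} (hc : c ∈ D i) (hf : f ∈ D j) (hQc : Q c ≠ 0) (h : Q f = Q c) :
    rO Q c * rO Q f ∈ X := by
  refine hX.stab _ (rO_mul_mem H.nQ hQc h) fun l => ⟨l, fun v hv => ?_⟩
  rw [Subgroup.coe_mul, mul_app]
  exact H.rO_block hc (H.rO_block hf hv)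

variable [Finite F]

theorem sie_mem_block {i : Fin t} {u w : V} (huD : u ∈ D i) (hwD : w ∈ D i) (hu : Q u = 0)
    (hw : polar Q u w = 0) (hn : 5 ≤ finrank F V) : sie u w hu hw ∈ X := by
  refine hX.stab _ (by rw [← sieGroup_eq_commutator H.nQ hn]; exact sie_mem hu hw) fun l => ⟨l, fun v hv => ?_⟩
  rcases eq_or_ne i l with rfl | hne
  · rw [sie_app]; exact (D i).sub_mem ((D i).add_mem hv ((D i).smul_mem _ huD)) ((D i).smul_mem _ hwD)
  · rw [sie_fix' hu hw (H.orth i l hne u huD v hv) (H.orth i l hne w hwD v hv)]; exact hv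

theorem sInF_block {i : Fin t} {u w : V} (huD : u ∈ D i) (hwD : w ∈ D i) (hu : Q u = 0)
    (hw : polar Q u w = 0) (hn : 5 ≤ finrank F V) : SInF X u w := fun c =>
  ⟨hu, by rw [polar_smul_right', hw, mul_zero],
    H.sie_mem_block hX huD ((D i).smul_mem c hwD) hu (by rw [polar_smul_right', hw, mul_zero]) hn⟩

end Dec

namespace Dec

variable [Finite F] [FiniteDimensional F V] (H : Dec Q k D) (hX : Over D X)
include H

omit [Finite F] in
theorem five_le : 5 ≤ finrank F V := by
  have ht := H.ht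
  set i : Fin t := ⟨0, by omega⟩
  set j : Fin t := ⟨1, by omega⟩
  have hij : i ≠ j := by simp [i, j]
  have hle : D i ⊓ D j = ⊥ := eq_bot_iff.2 fun x hx => by
    have h1 := H.pr_other (i := i) hx.2 hij
    rw [H.pr_self hx.1] at h1
    exact h1 ▸ Submodule.zero_mem _
  have h1 := Submodule.finrank_sup_add_finrank_inf_eq (D i) (D j)
  rw [hle, finrank_bot, H.rk, H.rk] at h1
  have h2 := Submodule.finrank_le (D i ⊔ D j)
  have := H.hk
  omega

include hX

/-- An element of `X` fixing one block pointwise and carrying a second to a third. -/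
theorem exists_move {l i r : Fin t} (hli : l ≠ i) (hlr : l ≠ r) (hir : i ≠ r) :
    ∃ π ∈ X, (∀ v ∈ D l, (π : V ≃ₗ[F] V) v = v) ∧ ∀ v ∈ D i, (π : V ≃ₗ[F] V) v ∈ D r := by
  obtain ⟨e, he⟩ := H.isom (by
    have := Fin.val_ne_of_ne hli; have := Fin.val_ne_of_ne hlr; have := Fin.val_ne_of_ne hir; omega) i r
  let Pi : V →ₗ[F] D i := (H.pr i).codRestrict (D i) (H.pr_mem i)
  let Pr : V →ₗ[F] D r := (H.pr r).codRestrict (D r) (H.pr_mem r)
  let s : V →ₗ[F] V := LinearMap.id - H.pr i - H.pr r + (D r).subtype ∘ₗ e.toLinearMap ∘ₗ Pi +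
    (D i).subtype ∘ₗ e.symm.toLinearMap ∘ₗ Pr
  have hs : ∀ x, s x = x - H.pr i x - H.pr r x + (e (Pi x) : V) + (e.symm (Pr x) : V) := fun x => rfl
  have hperp : ∀ (x : V) (j : Fin t), j = i ∨ j = r → ∀ v ∈ D j, polar Q v (x - H.pr i x - H.pr r x) = 0 := by
    rintro x j (rfl | rfl) v hv
    · rw [polar_sub_right, H.polar_sub_pr hv, H.orth j r hir v hv _ (H.pr_mem r x), sub_zero]
    · rw [sub_right_comm, polar_sub_right, H.polar_sub_pr hv, H.orth j i hir.symm v hv _ (H.pr_mem i x), sub_zero]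
  have hQs : ∀ x, Q (s x) = Q x := by
    intro x
    have h1 : Q (e.symm (Pr x) : V) = Q (H.pr r x) := by
      conv_rhs => rw [show H.pr r x = ((e (e.symm (Pr x)) : D r) : V) by rw [e.apply_symm_apply]; rfl, he]
    have h2 : Q (e (Pi x) : V) = Q (H.pr i x) := he (Pi x)
    have ea : ∀ y z : V, y ∈ D r → z ∈ D i →
        Q (x - H.pr i x - H.pr r x + y + z) = Q (x - H.pr i x - H.pr r x) + Q y + Q z := fun y z hy hz => by
      rw [map_add_polar, map_add_polar, polar_add_left, polar_comm (⇑Q) _ y, hperp x r (Or.inr rfl) y hy,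
        polar_comm (⇑Q) _ z, hperp x i (Or.inl rfl) z hz, H.orth r i hir.symm y hy z hz]
      ring
    calc Q (s x) = Q (x - H.pr i x - H.pr r x) + Q (H.pr r x) + Q (H.pr i x) := by
          rw [hs, ea _ _ (e (Pi x)).2 (e.symm (Pr x)).2, h1, h2]; ring
      _ = Q x := by rw [← ea _ _ (H.pr_mem r x) (H.pr_mem i x)]; congr 1; abel
  set σ := H.nQ.ofLinear s hQs with hσ
  obtain ⟨ρ, hρ, hmem⟩ := exists_corr H.nQ H.five_le (H.nd r) (by rw [H.rk]; have := H.hk; omega) σ
  have hρfix : ∀ j, j ≠ r → ∀ v ∈ D j, (ρ : V ≃ₗ[F] V) v = v := fun j hj v hv =>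
    hρ v fun w hw => H.orth r j hj.symm w hw v hv
  have hσfix : ∀ j, j ≠ r → j ≠ i → ∀ v ∈ D j, (σ : V ≃ₗ[F] V) v = v := fun j hjr hji v hv => by
    rw [hσ, Nondeg.ofLinear_app, hs]
    have h1 : Pi v = 0 := Subtype.ext (H.pr_other hv hji.symm)
    have h2 : Pr v = 0 := Subtype.ext (H.pr_other hv hjr.symm)
    rw [h1, h2, H.pr_other hv hji.symm, H.pr_other hv hjr.symm]
    simp
  have hσi : ∀ v ∈ D i, (σ : V ≃ₗ[F] V) v ∈ D r := fun v hv => by
    rw [hσ, Nondeg.ofLinear_app, hs]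
    have h2 : Pr v = 0 := Subtype.ext (H.pr_other hv hir.symm)
    rw [h2, H.pr_self hv, H.pr_other hv hir.symm]
    simp
  have hσr : ∀ v ∈ D r, (σ : V ≃ₗ[F] V) v ∈ D i := fun v hv => by
    rw [hσ, Nondeg.ofLinear_app, hs]
    have h1 : Pi v = 0 := Subtype.ext (H.pr_other hv hir)
    rw [h1, H.pr_self hv, H.pr_other hv hir]
    simp
  have hρr : ∀ v ∈ D r, (ρ : V ≃ₗ[F] V) v ∈ D r := fun v hv => by
    have h := Cfsg.Agent.H98.OrthMax.perp_invariant ρ (W := perp Q (D r)) (fun w hw => by rw [hρ w hw]; exact hw) v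
      (by rw [H.nQ.perp_perp]; exact hv)
    rwa [H.nQ.perp_perp] at h
  refine ⟨σ * ρ, hX.stab _ hmem fun j => ?_, fun v hv => ?_, fun v hv => ?_⟩
  · by_cases hji : j = i
    · subst hji
      exact ⟨r, fun v hv => by rw [Subgroup.coe_mul, mul_app, hρfix j hir v hv]; exact hσi v hv⟩
    by_cases hjr : j = r
    · subst hjr
      exact ⟨i, fun v hv => by rw [Subgroup.coe_mul, mul_app]; exact hσr _ (hρr v hv)⟩
    exact ⟨j, fun v hv => by rw [Subgroup.coe_mul, mul_app, hρfix j hjr v hv, hσfix j hjr hji v hv]; exact hv⟩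
  · rw [Subgroup.coe_mul, mul_app, hρfix l hlr v hv, hσfix l hlr hli v hv]
  · rw [Subgroup.coe_mul, mul_app, hρfix i hir v hv]
    exact hσi v hv

end Dec

end Cfsg.Agent.H96.OrthDecTwo
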