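import Cfsg.Agent.H96.OrthDecTwo.Basic

/-!
An Eichler element with centre outside all blocks and a component not proportional to the centre.
-/

set_option autoImplicit false

namespace Cfsg.Agent.H96.OrthDecTwo

open QuadraticMap Module Cfsg.Agent.Orthogonal
open Cfsg.Agent.H98.SubfieldOrth
open Cfsg.Agent.H98.OrthDecomp (Wide SInF Over Goal sInF_zero)

variable {F V : Type*} [Field F] [AddCommGroup V] [Module F V]
  {Q : QuadraticForm F V} {t k : ℕ} {D : Fin t → Submodule F V} {X : Subgroup (O Q)}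

/-- In characteristic two every element of a finite field is a square. -/
theorem exists_sq [Finite F] (h2 : (2 : F) = 0) (c : F) : ∃ s : F, s ^ 2 = c := by
  have := Fintype.ofFinite F
  have : CharP F 2 := CharTwo.of_one_ne_zero_of_two_eq_zero one_ne_zero h2
  obtain ⟨s, hs⟩ := FiniteField.isSquare_of_char_two (ringChar.eq F 2) c
  exact ⟨s, by rw [hs, pow_two]⟩

/-- A subspace of dimension at least three has a nonzero singular vector. -/
theorem exists_singular_sub [Finite F] [FiniteDimensional F V] {U : Submodule F V} (hd : 3 ≤ finrank F U) :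
    ∃ s ∈ U, s ≠ 0 ∧ Q s = 0 := by
  by_cases hU : Nondeg (restr Q U)
  · obtain ⟨⟨s, hs⟩, hs0, hq⟩ := hU.exists_singular hd
    exact ⟨s, hs, fun e => hs0 (Subtype.ext e), hq⟩
  rw [nondeg_restr_iff, Submodule.eq_bot_iff] at hU
  push Not at hU
  obtain ⟨r, ⟨hrU, hrp⟩, hr0⟩ := hU
  by_cases hqr : Q r = 0
  · exact ⟨r, hrU, hr0, hqr⟩
  have h2 : (2 : F) = 0 := by
    by_contra h2
    have h1 := hrp r hrU
    rw [polar_self', mul_eq_zero] at h1
    exact hqr (h1.resolve_left h2)
  obtain ⟨y, hyU, hy⟩ : ∃ y ∈ U, y ∉ Submodule.span F {r} := by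
    by_contra hc
    push Not at hc
    have := Submodule.finrank_mono (show U ≤ Submodule.span F {r} from hc)
    rw [finrank_span_singleton hr0] at this
    omega
  obtain ⟨c, hc⟩ := exists_sq h2 (Q y / Q r)
  refine ⟨y + c • r, U.add_mem hyU (U.smul_mem _ hrU), fun e => hy ?_, ?_⟩
  · rw [eq_neg_of_add_eq_zero_left e, ← neg_smul]
    exact Submodule.smul_mem _ _ (Submodule.mem_span_singleton_self r)
  · rw [map_add_polar, qmap_smul, polar_smul_right', hrp y hyU, mul_zero, add_zero, hc, div_mul_cancel₀ _ hqr,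
      ← two_mul, h2, zero_mul]

theorem eq_one_of_two [Finite F] (hF : ¬∃ s : F, s ≠ 0 ∧ s ≠ 1) {x : F} (hx : x ≠ 0) : x = 1 := by
  by_contra h
  exact hF ⟨x, hx, h⟩

namespace Dec


variable [Finite F] [FiniteDimensional F V] (H : Dec Q k D)
include H

theorem exists_sing_polar_ne {r : Fin t} {v : V} (hv : v ∈ D r) (hv0 : v ≠ 0)   :
    ∃ d ∈ D r, Q d = 0 ∧ polar Q d v ≠ 0 := by
  by_contra hc
  push Not at hc
  have hle : D r ≤ perp Q (Submodule.span F {v}) := le_of_singular (H.nd r) (by rw [H.rk]; have := H.hk; omega) _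
    fun x hx hqx => (mem_perp_span_singleton Q).2 (by rw [polar_comm]; exact hc x hx hqx)
  exact hv0 (congrArg Subtype.val ((H.nd r) ⟨v, hv⟩ fun x => by
    rw [polar_restr]; exact (mem_perp_span_singleton Q).1 (hle x.2)))

theorem exists_sing (r : Fin t) : ∃ d ∈ D r, d ≠ 0 ∧ Q d = 0 := by
  obtain ⟨⟨d, hd⟩, hd0, hqd⟩ := (H.nd r).exists_singular (by rw [H.rk]; have := H.hk; omega)
  exact ⟨d, hd, fun e => hd0 (Subtype.ext e), hqd⟩

variable (hX : Over D X)
include hX

/-- A singular vector of a block as a vector for a centre fixed by its unipotents. -/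
theorem exists_sing_vec {a b : V} (h : SInF X a b) {l : Fin t} {d : V} (hdl : d ∈ D l) (hd0 : d ≠ 0)
    (hd : Q d = 0) (hda : polar Q d a = 0) (hfix : ∀ v ∈ D l, polar Q d v = 0 → polar Q v a = 0)
    (hne : polar Q d b ≠ 0 ∨ ∃ v ∈ D l, polar Q d v = 0 ∧ polar Q v b ≠ 0) : SInF X a d := by
  have key : ∀ v ∈ D l, polar Q d v = 0 →
      SInF X a ((polar Q v b - Q v * polar Q d b) • d - polar Q d b • v) := fun v hvl hdv => by
    refine (h.diff (H.sie_mem_block hX hdl hvl hd hdv H.five_le)
      (sie_fix' hd hdv hda (hfix v hvl hdv))).congr rfl ?_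
    rw [sie_app]
    abel
  by_cases hγ : polar Q d b = 0
  · obtain ⟨v, hvl, hdv, hvb⟩ := hne.resolve_left (not_not.2 hγ)
    refine ((key v hvl hdv).smul (polar Q v b)⁻¹).congr rfl ?_
    rw [hγ, mul_zero, sub_zero, zero_smul, sub_zero, smul_smul, inv_mul_cancel₀ hvb, one_smul]
  · obtain ⟨f, -, -, -, C, hC, hCn, hCd, hCp, -⟩ := exists_hyp_at H.nQ (H.nd l) hdl hd0 hd
    obtain ⟨w₁, hw₁⟩ := (Submodule.ne_bot_iff C).1 (fun e => by
      have := H.rk l; have := H.hk; rw [e, finrank_bot] at hCd; omega)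
    obtain ⟨⟨w₂, hw₂⟩, hne'⟩ := hCn.exists_polar_ne (x := ⟨w₁, hw₁.1⟩) (fun e => hw₁.2 (congrArg Subtype.val e))
    rw [polar_restr] at hne'
    have h1 := key w₁ (hC hw₁.1) (hCp w₁ hw₁.1).1
    have h2 := key w₂ (hC hw₂) (hCp w₂ hw₂).1
    have h3 := key (w₁ + w₂) ((D l).add_mem (hC hw₁.1) (hC hw₂))
      (by rw [polar_add_right, (hCp w₁ hw₁.1).1, (hCp w₂ hw₂).1, add_zero])
    have hc : -polar Q w₁ w₂ * polar Q d b ≠ 0 := mul_ne_zero (neg_ne_zero.2 hne') hγ
    refine (((h3.sub h1).sub h2).smul (-polar Q w₁ w₂ * polar Q d b)⁻¹).congr rfl ?_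
    rw [map_add_polar, polar_add_left]
    match_scalars <;> field_simp <;> ring

/-- A block where the centre is singular and the vector is not proportional to it. -/
theorem goal_of_singular {a b : V} (ha : Wide D a) (h : SInF X a b) (l : Fin t) (hal : Q (H.pr l a) = 0)
    (hb : H.pr l b ∉ Submodule.span F {H.pr l a}) : Goal D X := by
  suffices hsuf : ∃ d ∈ D l, d ≠ 0 ∧ Q d = 0 ∧ SInF X a d by
    obtain ⟨d, hdl, hd0, hd, hin⟩ := hsuf
    exact ⟨l, d, a, hdl, hd0, hd, ha l, hin.swap hd⟩
  rcases eq_or_ne (H.pr l a) 0 with h0 | h0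
  · have hfix : ∀ v ∈ D l, polar Q v a = 0 := fun v hv => by rw [← H.polar_pr hv, h0, polar_zero_right]
    obtain ⟨d, hdl, hd, hdb⟩ : ∃ d ∈ D l, Q d = 0 ∧ polar Q d b ≠ 0 := by
      by_contra hc
      push Not at hc
      have hle : D l ≤ perp Q (Submodule.span F {b}) := le_of_singular (H.nd l) (by rw [H.rk]; have := H.hk; omega) _
        fun v hv hqv => (mem_perp_span_singleton Q).2 (by rw [polar_comm]; exact hc v hv hqv)
      refine hb ?_
      rw [show H.pr l b = 0 from
        H.pr_of_perp fun y hy => by rw [polar_comm]; exact (mem_perp_span_singleton Q).1 (hle hy)]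
      exact Submodule.zero_mem _
    have hd0 : d ≠ 0 := fun e => hdb (by rw [e, polar_zero_left])
    exact ⟨d, hdl, hd0, hd, H.exists_sing_vec hX h hdl hd0 hd (hfix d hdl) (fun v hv _ => hfix v hv) (Or.inl hdb)⟩
  · refine ⟨_, H.pr_mem l a, h0, hal, H.exists_sing_vec hX h (H.pr_mem l a) h0 hal ?_ (fun v hv hdv => ?_) ?_⟩
    · rw [← H.polar_pr (H.pr_mem l a), polar_self', hal, mul_zero]
    · rw [← H.polar_pr hv, polar_comm]; exact hdv
    · by_contra hc
      push Not at hc
      obtain ⟨f, hfl, -, hdf, -⟩ := exists_hyp_at H.nQ (H.nd l) (H.pr_mem l a) h0 hal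
      refine hb ?_
      have hz : H.pr l b = polar Q f b • H.pr l a := by
        refine sub_eq_zero.1 (Subtype.ext_iff.1 ((H.nd l) ⟨_, (D l).sub_mem (H.pr_mem l b)
          ((D l).smul_mem (polar Q f b) (H.pr_mem l a))⟩ fun x => ?_))
        have h1 := hc.2 ((x : V) - polar Q (H.pr l a) x • f) ((D l).sub_mem x.2 ((D l).smul_mem _ hfl))
          (by rw [polar_sub_right, polar_smul_right', hdf, mul_one, sub_self])
        rw [polar_sub_left, polar_smul_left', sub_eq_zero] at h1
        rw [polar_restr, polar_sub_left, polar_smul_left', polar_comm, H.polar_pr x.2, h1]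
        ring
      rw [hz]
      exact Submodule.smul_mem _ _ (Submodule.mem_span_singleton_self _)

omit hX

omit [Finite F] in
/-- Vectors of a block orthogonal to the vectors of the block orthogonal to a subspace lie in the subspace. -/
theorem mem_of_perp {l : Fin t} {W : Submodule F V} (hW : W ≤ D l) {x : V} (hx : x ∈ D l)
    (h : ∀ w ∈ D l, (∀ y ∈ W, polar Q y w = 0) → polar Q w x = 0) : x ∈ W := by
  rw [← H.nQ.perp_perp W]
  intro y hy
  have h1 := h (H.pr l y) (H.pr_mem l y) fun z hz => by rw [H.polar_pr (hW hz)]; exact hy z hz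
  rwa [polar_comm, H.polar_pr hx, polar_comm] at h1

omit [Finite F] in
theorem finrank_block_perp (l : Fin t) (W : Submodule F V) :
    finrank F (D l) ≤ finrank F W + finrank F (D l ⊓ perp Q W : Submodule F V) := by
  have h1 := H.nQ.finrank_add_perp W
  have h2 := Submodule.finrank_sup_add_finrank_inf_eq (D l) (perp Q W)
  have h3 := Submodule.finrank_le (D l ⊔ perp Q W)
  omega

omit [Finite F] [FiniteDimensional F V] H in
theorem finrank_pair_le (x y : V) : finrank F (Submodule.span F ({x, y} : Set V)) ≤ 2 := by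
  classical
  refine (finrank_span_le_card ({x, y} : Set V)).trans ?_
  rw [Set.toFinset_insert, Set.toFinset_singleton]
  exact Finset.card_le_two

include hX

/-- The difference by an Eichler element of a block fixing the centre. -/
theorem diff_block {a b : V} (h : SInF X a b) {l : Fin t} {s w : V} (hs : s ∈ D l) (hw : w ∈ D l) (hqs : Q s = 0)
    (hsw : polar Q s w = 0) (hsa : polar Q s a = 0) (hwa : polar Q w a = 0) :
    SInF X a ((polar Q w b - Q w * polar Q s b) • s - polar Q s b • w) :=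
  (h.diff (H.sie_mem_block hX hs hw hqs hsw H.five_le) (sie_fix' hqs hsw hsa hwa)).congr rfl
    (by rw [sie_app]; abel)

omit [Finite F] [FiniteDimensional F V] H hX in
/-- A singular vector of a block as vector gives the goal. -/
theorem goal_of_singular_vec {a s : V} {l : Fin t} {c : F} (ha : Wide D a) (hs : s ∈ D l) (hs0 : s ≠ 0)
    (hqs : Q s = 0) (hc : c ≠ 0) (h : SInF X a (c • s)) : Goal D X :=
  ⟨l, s, a, hs, hs0, hqs, ha l, ((h.smul c⁻¹).congr rfl (inv_smul_smul₀ hc s)).swap hqs⟩

/-- A component in a block of dimension at least six, or five with orthogonal nonsingular parts. -/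
theorem goal_of_component_aux {a b : V} (ha : Wide D a) (h : SInF X a b) (l : Fin t)
    (hk : 6 ≤ k ∨ (5 ≤ k ∧ (2 : F) ≠ 0 ∧ polar Q (H.pr l a) (H.pr l b) = 0 ∧ Q (H.pr l b) ≠ 0))
    (hb : H.pr l b ∉ Submodule.span F {H.pr l a}) : Goal D X := by
  by_cases hA : Q (H.pr l a) = 0
  · exact H.goal_of_singular hX ha h l hA hb
  set al := H.pr l a with hal
  set bl := H.pr l b with hbl
  set Pl := Submodule.span F ({al, bl} : Set V) with hPl
  set W := D l ⊓ perp Q Pl with hW
  have hPD : Pl ≤ D l := by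
    rw [hPl, Submodule.span_le]
    rintro x (rfl | rfl) <;> exact H.pr_mem l _
  have hWd : k ≤ 2 + finrank F W := by
    have := H.finrank_block_perp l Pl
    have h2 : finrank F Pl ≤ 2 := finrank_pair_le al bl
    rw [H.rk] at this
    rw [hW]
    omega
  obtain ⟨s, hsW, hs0, hqs, hsP⟩ : ∃ s ∈ W, s ≠ 0 ∧ Q s = 0 ∧ s ∉ Pl := by
    have hW5 : 5 ≤ k ∧ (finrank F (W ⊓ Pl : Submodule F V) = 0 ∨ 6 ≤ k) := by
      rcases hk with hk | ⟨hk, h2, hpol, hQb⟩
      · exact ⟨by omega, Or.inr hk⟩
      refine ⟨hk, Or.inl (Submodule.finrank_eq_zero.2 (eq_bot_iff.2 fun x hx => ?_))⟩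
      obtain ⟨c, d, hcd⟩ := Submodule.mem_span_pair.1 hx.2
      have h1 := hx.1.2 al (Submodule.subset_span (Set.mem_insert _ _))
      have h3 := hx.1.2 bl (Submodule.subset_span (Set.mem_insert_of_mem _ rfl))
      rw [← hcd, polar_add_right, polar_smul_right', polar_smul_right', polar_self', hpol, mul_zero, add_zero,
        mul_eq_zero] at h1
      rw [← hcd, polar_add_right, polar_smul_right', polar_smul_right', polar_self', polar_comm (⇑Q) bl al, hpol,
        mul_zero, zero_add, mul_eq_zero] at h3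
      rw [← hcd, h1.resolve_right (mul_ne_zero h2 hA), h3.resolve_right (mul_ne_zero h2 hQb), zero_smul, zero_smul,
        add_zero]
      exact Submodule.zero_mem _
    by_cases hd : finrank F (W ⊓ Pl : Submodule F V) ≤ 1
    · obtain ⟨K, hK⟩ := Submodule.exists_isCompl (W ⊓ Pl)
      have h1 : 3 ≤ finrank F (W ⊓ K : Submodule F V) := by
        have h2 := Submodule.finrank_sup_add_finrank_inf_eq W K
        have h3 := Submodule.finrank_le (W ⊔ K)
        have h4 := Submodule.finrank_add_eq_of_isCompl hK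
        omega
      obtain ⟨s, hs, hs0, hqs⟩ := exists_singular_sub (Q := Q) h1
      refine ⟨s, hs.1, hs0, hqs, fun hsP => hs0 ?_⟩
      exact Submodule.disjoint_def.1 hK.disjoint s ⟨hs.1, hsP⟩ hs.2
    · have hle : Pl ≤ W := by
        have h2 : finrank F Pl ≤ 2 := finrank_pair_le al bl
        exact (Submodule.eq_of_le_of_finrank_le inf_le_right (by omega) : W ⊓ Pl = Pl) ▸ inf_le_left
      have halW : al ∈ W := hle (Submodule.subset_span (Set.mem_insert _ _))
      have h2 : (2 : F) = 0 := by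
        have h1 := halW.2 al (Submodule.subset_span (Set.mem_insert _ _))
        rw [polar_self', mul_eq_zero] at h1
        exact h1.resolve_right hA
      obtain ⟨x, hxW, hxP⟩ : ∃ x ∈ W, x ∉ Pl := by
        by_contra hc
        push Not at hc
        have := Submodule.finrank_mono (show W ≤ Pl from hc)
        have h2 : finrank F Pl ≤ 2 := finrank_pair_le al bl
        omega
      obtain ⟨c, hc⟩ := exists_sq h2 (Q x / Q al)
      have hxs : x + c • al ∉ Pl := fun e => hxP (by
        have := Pl.sub_mem e (Pl.smul_mem c (Submodule.subset_span (Set.mem_insert al {bl})))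
        rwa [add_sub_cancel_right] at this)
      refine ⟨x + c • al, W.add_mem hxW (W.smul_mem c halW), fun e => hxs (by rw [e]; exact Pl.zero_mem), ?_, hxs⟩
      rw [map_add_polar, qmap_smul, polar_smul_right', polar_comm (⇑Q) x al,
        hxW.2 al (Submodule.subset_span (Set.mem_insert _ _)), mul_zero, add_zero, hc, div_mul_cancel₀ _ hA,
        ← two_mul, h2, zero_mul]
  have hsa : polar Q s al = 0 := by rw [polar_comm]; exact hsW.2 al (Submodule.subset_span (Set.mem_insert _ _))
  have hsb : polar Q s b = 0 := by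
    rw [← H.polar_pr hsW.1, polar_comm]; exact hsW.2 bl (Submodule.subset_span (Set.mem_insert_of_mem _ rfl))
  obtain ⟨w, hw, hwal, hsw, hwb⟩ :
      ∃ w ∈ D l, polar Q al w = 0 ∧ polar Q s w = 0 ∧ polar Q w bl ≠ 0 := by
    by_contra hc
    push Not at hc
    have hmem : bl ∈ Submodule.span F ({al, s} : Set V) := H.mem_of_perp (by
        rw [Submodule.span_le]
        rintro x (rfl | rfl)
        · exact H.pr_mem l a
        · exact hsW.1) (H.pr_mem l b)
      fun w hw hp => hc w hw (hp al (Submodule.subset_span (Set.mem_insert _ _)))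
        (hp s (Submodule.subset_span (Set.mem_insert_of_mem _ rfl)))
    obtain ⟨c, d, hcd⟩ := Submodule.mem_span_pair.1 hmem
    rcases eq_or_ne d 0 with rfl | hd
    · exact hb (Submodule.mem_span_singleton.2 ⟨c, by rw [← hcd, zero_smul, add_zero]⟩)
    refine hsP (Submodule.mem_span_pair.2 ⟨-(c / d), d⁻¹, ?_⟩)
    rw [← hcd]
    match_scalars <;> field_simp <;> ring
  refine goal_of_singular_vec ha hsW.1 hs0 hqs (c := polar Q w b) (by rwa [← H.polar_pr hw])
    ((H.diff_block hX h hsW.1 hw hqs hsw (by rw [← H.polar_pr hsW.1]; exact hsa)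
      (by rw [← H.polar_pr hw, polar_comm]; exact hwal)).congr rfl ?_)
  rw [hsb, mul_zero, sub_zero, zero_smul, sub_zero]

/-- A component in a block of dimension at least six, or five in odd characteristic. -/
theorem goal_of_component {a b : V} (hk : 6 ≤ k ∨ (5 ≤ k ∧ (2 : F) ≠ 0)) (ha : Wide D a) (h : SInF X a b)
    (l : Fin t) (hb : H.pr l b ∉ Submodule.span F {H.pr l a}) : Goal D X := by
  rcases hk with hk | ⟨hk, h2⟩
  · exact H.goal_of_component_aux hX ha h l (Or.inl hk) hb
  by_cases hA : Q (H.pr l a) = 0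
  · exact H.goal_of_singular hX ha h l hA hb
  set al := H.pr l a with hal
  set P := D l ⊓ perp Q (Submodule.span F {al}) with hP
  have hal0 : al ≠ 0 := fun e => hA (by rw [e, map_zero])
  have hPn : Nondeg (restr Q P) := by
    rw [nondeg_restr_iff, Submodule.eq_bot_iff]
    intro x hx
    have hax : polar Q al x = 0 := hx.1.2 al (Submodule.mem_span_singleton_self al)
    refine (H.pr_self hx.1.1).symm.trans (H.pr_of_perp fun y hy => ?_)
    have hmem : y - (polar Q al y / (2 * Q al)) • al ∈ P := by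
      refine ⟨(D l).sub_mem hy ((D l).smul_mem _ (H.pr_mem l a)), (mem_perp_span_singleton Q).2 ?_⟩
      rw [polar_sub_right, polar_smul_right', polar_self', div_mul_cancel₀ _ (mul_ne_zero h2 hA), sub_self]
    have h1 := hx.2 _ hmem
    rwa [polar_sub_left, polar_smul_left', hax, mul_zero, sub_zero] at h1
  have hPd : 4 ≤ finrank F P := by
    have h1 := H.finrank_block_perp l (Submodule.span F {al})
    rw [H.rk, finrank_span_singleton hal0, ← hP] at h1
    omega
  obtain ⟨s, hs, hs0, hqs, hγ⟩ : ∃ s ∈ P, s ≠ 0 ∧ Q s = 0 ∧ polar Q s (H.pr l b) ≠ 0 := by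
    by_contra hc
    push Not at hc
    have hle : P ≤ perp Q (Submodule.span F {H.pr l b}) := le_of_singular hPn (by omega) _ fun s hs hqs =>
      (mem_perp_span_singleton Q).2 (by
        rcases eq_or_ne s 0 with rfl | hs0
        · exact polar_zero_right _ _
        · rw [polar_comm]; exact hc s hs hs0 hqs)
    exact hb (H.mem_of_perp (by rw [Submodule.span_singleton_le_iff_mem]; exact H.pr_mem l a) (H.pr_mem l b)
      fun w hw hp => by
        rw [polar_comm]
        exact hle ⟨hw, (mem_perp_span_singleton Q).2 (hp al (Submodule.mem_span_singleton_self al))⟩ _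
          (Submodule.mem_span_singleton_self _))
  obtain ⟨f, -, -, -, C, hC, hCn, hCd, hCp, -⟩ := exists_hyp_at H.nQ hPn hs hs0 hqs
  obtain ⟨w, hwC, hQw⟩ := H98.OrthDecomp.exists_aniso_of_nondeg hCn (by omega)
  have hperp : ∀ x ∈ P, polar Q x a = 0 := fun x hx => by
    rw [← H.polar_pr hx.1, polar_comm]; exact hx.2 al (Submodule.mem_span_singleton_self al)
  have hd := H.diff_block hX h hs.1 (hC hwC).1 hqs (hCp w hwC).1 (hperp s hs) (hperp w (hC hwC))
  set γ := polar Q s b with hγd
  set z := (polar Q w b - Q w * γ) • s - γ • w with hzd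
  have hzP : z ∈ P := P.sub_mem (P.smul_mem _ hs) (P.smul_mem _ (hC hwC))
  have hQz : Q z ≠ 0 := by
    rw [hzd, qmap_sub, qmap_smul, qmap_smul, polar_smul_left', polar_smul_right', hqs, (hCp w hwC).1]
    simpa [hQw] using (show γ ≠ 0 by rwa [hγd, ← H.polar_pr hs.1])
  have hzz : H.pr l z = z := H.pr_self hzP.1
  have haz : polar Q al z = 0 := hzP.2 al (Submodule.mem_span_singleton_self al)
  refine H.goal_of_component_aux hX ha hd l ?_ ?_
  · rw [hzz]; exact Or.inr ⟨hk, h2, haz, hQz⟩
  rw [hzz]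
  intro e
  obtain ⟨c, hc⟩ := Submodule.mem_span_singleton.1 e
  have h1 := congrArg (polar Q al) hc
  rw [polar_smul_right', polar_self', haz, mul_eq_zero] at h1
  rw [h1.resolve_right (mul_ne_zero h2 hA), zero_smul] at hc
  exact hQz (by rw [← hc, map_zero])

/-- Blocks of dimension four in characteristic two, up to one configuration over two elements. -/
theorem goal_or_special {a b : V} (h2 : (2 : F) = 0) (ha : Wide D a) (h : SInF X a b) (l : Fin t)
    (hb : H.pr l b ∉ Submodule.span F {H.pr l a}) :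
    Goal D X ∨ ((¬∃ s : F, s ≠ 0 ∧ s ≠ 1) ∧ Q (H.pr l a) ≠ 0 ∧
      ((∃ z ∈ D l, Q z = 1 ∧ z + H.pr l a ≠ 0 ∧ SInF X a z) ∨
        (polar Q (H.pr l a) (H.pr l b) ≠ 0 ∧ SInF X a (H.pr l a) ∧
          ∀ s ∈ D l, s ≠ 0 → Q s = 0 → polar Q (H.pr l a) s = 0 → polar Q s (H.pr l b) ≠ 0))) := by
  by_cases hA : Q (H.pr l a) = 0
  · exact Or.inl (H.goal_of_singular hX ha h l hA hb)
  set al := H.pr l a with hal
  set bl := H.pr l b with hbl
  have halD : al ∈ D l := H.pr_mem l a
  have haa : polar Q al a = 0 := by rw [← H.polar_pr halD, polar_self', h2, zero_mul]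
  have hneg : ∀ x : F, -x = x := fun x => by linear_combination -x * h2
  have hdiff : ∀ s ∈ D l, Q s = 0 → polar Q al s = 0 → ∀ c : F,
      SInF X a ((c * polar Q al bl - c ^ 2 * Q al * polar Q s bl) • s - (c * polar Q s bl) • al) := by
    intro s hs hqs has c
    refine (H.diff_block hX h hs ((D l).smul_mem c halD) hqs
      (by rw [polar_smul_right', polar_comm, has, mul_zero])
      (by rw [← H.polar_pr hs, polar_comm]; exact has) (by rw [polar_smul_left', haa, mul_zero])).congr rfl ?_
    rw [polar_smul_left', qmap_smul, ← H.polar_pr halD, ← H.polar_pr hs, smul_smul, mul_comm (polar Q s bl) c]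
  have big : ∀ s ∈ D l, s ≠ 0 → Q s = 0 → polar Q al s = 0 → polar Q s bl ≠ 0 →
      (∃ c : F, c ≠ 0 ∧ c ≠ 1) → Goal D X := by
    intro s hs hs0 hqs has hγ ⟨c, hc0, hc1⟩
    have hne : (c ^ 2 - c) * Q al * polar Q s bl ≠ 0 := mul_ne_zero (mul_ne_zero
      (by rw [pow_two, ← mul_sub_one]; exact mul_ne_zero hc0 (sub_ne_zero.2 hc1)) hA) hγ
    refine goal_of_singular_vec ha hs hs0 hqs hne
      (((hdiff s hs hqs has 1).smul c).sub (hdiff s hs hqs has c) |>.congr rfl ?_)
    match_scalars <;> ring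
  by_cases hβ : polar Q al bl = 0
  · obtain ⟨x, hx, hxal, hxb⟩ : ∃ x ∈ D l, polar Q al x = 0 ∧ polar Q x bl ≠ 0 := by
      by_contra hc
      push Not at hc
      exact hb (H.mem_of_perp (by rw [Submodule.span_singleton_le_iff_mem]; exact halD) (H.pr_mem l b)
        fun w hw hp => hc w hw (hp al (Submodule.mem_span_singleton_self al)))
    obtain ⟨c, hc⟩ := exists_sq h2 (Q x / Q al)
    set s := x + c • al with hsd
    have hs : s ∈ D l := (D l).add_mem hx ((D l).smul_mem c halD)
    have hqs : Q s = 0 := by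
      rw [hsd, map_add_polar, qmap_smul, polar_smul_right', polar_comm (⇑Q) x al, hxal, mul_zero, add_zero, hc,
        div_mul_cancel₀ _ hA, ← two_mul, h2, zero_mul]
    have hsγ : polar Q s bl ≠ 0 := by rw [hsd, polar_add_left, polar_smul_left', hβ, mul_zero, add_zero]; exact hxb
    have hs0 : s ≠ 0 := fun e => hsγ (by rw [e, polar_zero_left])
    have has : polar Q al s = 0 := by
      rw [hsd, polar_add_right, polar_smul_right', hxal, polar_self', h2, zero_mul, mul_zero, add_zero]
    by_cases hF : ∃ c : F, c ≠ 0 ∧ c ≠ 1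
    · exact Or.inl (big s hs hs0 hqs has hsγ hF)
    refine Or.inr ⟨hF, hA, Or.inl ⟨s + al, (D l).add_mem hs halD, ?_, ?_, ?_⟩⟩
    · rw [map_add_polar, hqs, polar_comm (⇑Q) s al, has, eq_one_of_two hF hA, zero_add, add_zero]
    · rw [add_assoc, show al + al = (2 : F) • al from (two_smul F al).symm, h2, zero_smul, add_zero]
      exact hs0
    · refine ((hdiff s hs hqs has 1).smul 1).congr rfl ?_
      rw [hβ, eq_one_of_two hF hA, eq_one_of_two hF hsγ]
      match_scalars <;> simp [hneg, sub_eq_add_neg]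
  · by_cases hex : ∃ s ∈ D l, s ≠ 0 ∧ Q s = 0 ∧ polar Q al s = 0 ∧ polar Q s bl = 0
    · obtain ⟨s, hs, hs0, hqs, has, hsb⟩ := hex
      refine Or.inl (goal_of_singular_vec ha hs hs0 hqs hβ ((hdiff s hs hqs has 1).congr rfl ?_))
      rw [hsb]; simp
    push Not at hex
    obtain ⟨s, hs, hs0, hqs⟩ := exists_singular_sub (Q := Q) (U := D l ⊓ perp Q (Submodule.span F {al})) (by
      have h1 := H.finrank_block_perp l (Submodule.span F {al})
      rw [H.rk, finrank_span_singleton (fun e => hA (by rw [e, map_zero]))] at h1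
      have := H.hk
      omega)
    have has : polar Q al s = 0 := hs.2 al (Submodule.mem_span_singleton_self al)
    have hγ := hex s hs.1 hs0 hqs has
    by_cases hF : ∃ c : F, c ≠ 0 ∧ c ≠ 1
    · exact Or.inl (big s hs.1 hs0 hqs has hγ hF)
    refine Or.inr ⟨hF, hA, Or.inr ⟨hβ, ((hdiff s hs.1 hqs has 1).smul 1).congr rfl ?_, hex⟩⟩
    rw [eq_one_of_two hF hA, eq_one_of_two hF hγ, eq_one_of_two hF hβ]
    match_scalars <;> simp [hneg]

end Dec

end Cfsg.Agent.H96.OrthDecTwo
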