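import Cfsg.Agent.H96.OrthDecTwo.Component

/-!
Blocks of dimension four in characteristic two.
-/

set_option autoImplicit false

namespace Cfsg.Agent.H96.OrthDecTwo

open QuadraticMap Module Cfsg.Agent.Orthogonal
open Cfsg.Agent.H98.SubfieldOrth
open Cfsg.Agent.H98.OrthDecomp (Wide SInF Over Goal)

variable {F V : Type*} [Field F] [AddCommGroup V] [Module F V]
  {Q : QuadraticForm F V} {t k : ℕ} {D : Fin t → Submodule F V} {X : Subgroup (O Q)}

namespace Dec

variable [Finite F] [FiniteDimensional F V] (H : Dec Q k D)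
include H

omit [Finite F] in
theorem q_sum (x : V) : Q x = ∑ i, Q (H.pr i x) := by
  suffices h : ∀ S : Finset (Fin t), Q (∑ i ∈ S, H.pr i x) = ∑ i ∈ S, Q (H.pr i x) by
    have h1 := h Finset.univ
    rwa [H.sum_pr] at h1
  intro S
  induction S using Finset.induction_on with
  | empty => simp
  | insert i S hi ih =>
    have h0 : polar Q (H.pr i x) (∑ j ∈ S, H.pr j x) = 0 := by
      rw [← polarBilin_apply', map_sum]
      exact Finset.sum_eq_zero fun j hj => by
        rw [polarBilin_apply']; exact H.orth i j (fun e => hi (e ▸ hj)) _ (H.pr_mem i x) _ (H.pr_mem j x)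
    rw [Finset.sum_insert hi, Finset.sum_insert hi, map_add_polar, h0, add_zero, ih]

variable (hX : Over D X)
include hX

/-- An Eichler element with nonsingular vector in one block and singular centre, moved by itself. -/
theorem goal_of_z {a z : V} {l j : Fin t} (hF : ¬∃ s : F, s ≠ 0 ∧ s ≠ 1) (hjl : j ≠ l) (h : SInF X a z)
    (hz : z ∈ D l) (hQz : Q z = 1) (hj : Q (H.pr j a) ≠ 0)
    (hr : z + H.pr l a ≠ 0 ∨ ∃ r, r ≠ l ∧ r ≠ j ∧ H.pr r a ≠ 0) : Goal D X := by
  set aj := H.pr j a with haj
  have hajD : aj ∈ D j := H.pr_mem j a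
  obtain ⟨u, huD, hqu, hua⟩ := H.exists_sing_polar_ne hajD (fun e => hj (by rw [e, map_zero]))
  have hua1 : polar Q u aj = 1 := eq_one_of_two hF hua
  have hu0 : u ≠ 0 := fun e => hua (by rw [e, polar_zero_left])
  obtain ⟨v, hvm, hv0⟩ := (Submodule.ne_bot_iff (D j ⊓ perp Q (Submodule.span F {u, aj}))).1 (fun e => by
    have h1 := H.finrank_block_perp j (Submodule.span F {u, aj})
    have h2 : finrank F (Submodule.span F ({u, aj} : Set V)) ≤ 2 := finrank_pair_le u aj
    rw [H.rk, e, finrank_bot] at h1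
    have := H.hk
    omega)
  have hvD : v ∈ D j := hvm.1
  have huv : polar Q u v = 0 := hvm.2 u (Submodule.subset_span (Set.mem_insert _ _))
  have hajv : polar Q aj v = 0 := hvm.2 aj (Submodule.subset_span (Set.mem_insert_of_mem _ rfl))
  obtain ⟨hu, hw, hY⟩ := h.sIn
  have hau : polar Q a u = 1 := by rw [polar_comm, ← H.polar_pr huD]; exact hua1
  have h' : SInF X (u - a - z) v := by
    refine ((H.sInF_block hX huD hvD hqu huv H.five_le).conj hY).congr ?_ ?_
    · rw [sie_app, H.orth l j hjl.symm z hz u huD, hQz, hau]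
      module
    · rw [sie_app, H.orth l j hjl.symm z hz v hvD, polar_comm (⇑Q) a v, ← H.polar_pr hvD, polar_comm, hajv]
      simp
  have pj : H.pr j (u - a - z) = u - aj := by simp [haj, H.pr_self huD, H.pr_other hz hjl]
  have hpj0 : Q (u - aj) = 0 := by rw [qmap_sub, hqu, hua1, eq_one_of_two hF hj]; ring
  have hne : u - aj ≠ 0 := fun e => hj (by rw [← sub_eq_zero.1 e]; exact hqu)
  have hwide : Wide D (u - a - z) := by
    rcases hr with hl | ⟨r, hrl, hrj, hr⟩
    · refine H.wide_of_two hjl (by rw [pj]; exact hne) ?_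
      simp only [map_sub, H.pr_other huD hjl.symm, H.pr_self hz]
      intro e
      exact hl (by linear_combination (norm := module) -e)
    · refine H.wide_of_two hrj.symm (by rw [pj]; exact hne) ?_
      simp only [map_sub, H.pr_other huD hrj, H.pr_other hz hrl]
      simpa using hr
  refine H.goal_of_singular hX hwide h' j (by rw [pj]; exact hpj0) ?_
  rw [pj, H.pr_self hvD]
  intro hmem
  obtain ⟨c, hc⟩ := Submodule.mem_span_singleton.1 hmem
  have h1 := congrArg (polar Q u) hc
  rw [polar_smul_right', polar_sub_right, polar_self', hqu, hua1, huv] at h1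
  refine hv0 ?_
  rw [← hc, show c = 0 by linear_combination -h1, zero_smul]

/-- Blocks of dimension four in characteristic two. -/
theorem goal_of_four {a b : V} (hk : k < 6) (h2 : (2 : F) = 0) (ha : Wide D a) (h : SInF X a b)
    (hQb : (¬∃ s : F, s ≠ 0 ∧ s ≠ 1) → Q b ≠ 0) {l : Fin t}
    (hb : H.pr l b ∉ Submodule.span F {H.pr l a}) : Goal D X := by
  rcases H.goal_or_special hX h2 ha h l hb with hg | ⟨hF, hA, hs⟩
  · exact hg
  rcases hs with ⟨z, hz, hQz, hzl, hzin⟩ | ⟨hβ, hin, hal⟩
  · obtain ⟨j, hjl, hj⟩ : ∃ j, j ≠ l ∧ Q (H.pr j a) ≠ 0 := by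
      by_contra hc
      push Not at hc
      refine hA ?_
      have h0 := H.q_sum a
      rwa [h.singular, Finset.sum_eq_single l (fun i _ hi => hc i hi) (fun e => absurd (Finset.mem_univ l) e),
        eq_comm] at h0
    exact H.goal_of_z hX hF hjl hzin hz hQz hj (Or.inl hzl)
  obtain ⟨m, hml, hm⟩ : ∃ m, m ≠ l ∧ polar Q (H.pr m a) (H.pr m b) ≠ 0 := by
    by_contra hc
    push Not at hc
    refine hβ ?_
    have h0 := H.polar_sum a b
    rwa [h.orth, Finset.sum_eq_single l (fun i _ hi => hc i hi) (fun e => absurd (Finset.mem_univ l) e),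
      eq_comm] at h0
  have hbm : H.pr m b ∉ Submodule.span F {H.pr m a} := fun e => by
    obtain ⟨c, hc⟩ := Submodule.mem_span_singleton.1 e
    rw [← hc, polar_smul_right', polar_self', h2, zero_mul, mul_zero] at hm
    exact hm rfl
  rcases H.goal_or_special hX h2 ha h m hbm with hg | ⟨-, hAm, hs⟩
  · exact hg
  rcases hs with ⟨z, hz, hQz, hzm, hzin⟩ | ⟨-, -, ham⟩
  · exact H.goal_of_z hX hF hml.symm hzin hz hQz hA (Or.inl hzm)
  by_cases hr : ∃ r, r ≠ l ∧ r ≠ m ∧ H.pr r a ≠ 0
  · exact H.goal_of_z hX hF hml hin (H.pr_mem l a) (eq_one_of_two hF hA) hAm (Or.inr hr)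
  push Not at hr
  by_cases hrb : ∃ r, r ≠ l ∧ r ≠ m ∧ H.pr r b ≠ 0
  · obtain ⟨r, hrl, hrm, hrb⟩ := hrb
    refine H.goal_of_singular hX ha h r (by rw [hr r hrl hrm, map_zero]) ?_
    rw [hr r hrl hrm, Submodule.span_singleton_eq_bot.2 rfl, Submodule.mem_bot]
    exact hrb
  push Not at hrb
  have key : ∀ i, Q (H.pr i a) ≠ 0 → polar Q (H.pr i a) (H.pr i b) ≠ 0 →
      (∀ s ∈ D i, s ≠ 0 → Q s = 0 → polar Q (H.pr i a) s = 0 → polar Q s (H.pr i b) ≠ 0) → Q (H.pr i b) = 0 := by
    intro i hAi hβi hns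
    by_contra hB
    set al := H.pr i a with hald
    set bl := H.pr i b with hbld
    set W := D i ⊓ perp Q (Submodule.span F ({al, bl} : Set V)) with hW
    have hval : ∀ w ∈ W, w ≠ 0 → Q w = 1 ∧ polar Q al w = 0 ∧ polar Q bl w = 0 := fun w hw hw0 => by
      have e1 := hw.2 al (Submodule.subset_span (Set.mem_insert _ _))
      have e2 := hw.2 bl (Submodule.subset_span (Set.mem_insert_of_mem _ rfl))
      exact ⟨eq_one_of_two hF fun e => hns w hw.1 hw0 e e1 (by rw [polar_comm]; exact e2), e1, e2⟩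
    have hWd : 2 ≤ finrank F W := by
      have h1 := H.finrank_block_perp i (Submodule.span F ({al, bl} : Set V))
      have h2 : finrank F (Submodule.span F ({al, bl} : Set V)) ≤ 2 := finrank_pair_le al bl
      rw [H.rk] at h1
      have := H.hk
      rw [hW]
      omega
    obtain ⟨w₁, hw₁, hw₁0⟩ := (Submodule.ne_bot_iff W).1 (fun e => by rw [e, finrank_bot] at hWd; omega)
    obtain ⟨w₂, hw₂, hw₂n⟩ : ∃ w ∈ W, w ∉ Submodule.span F {w₁} := by
      by_contra hc
      push Not at hc
      have := Submodule.finrank_mono (show W ≤ Submodule.span F {w₁} from hc)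
      rw [finrank_span_singleton hw₁0] at this
      omega
    have hw₂0 : w₂ ≠ 0 := fun e => hw₂n (e ▸ Submodule.zero_mem _)
    obtain ⟨q1, a1, b1⟩ := hval w₁ hw₁ hw₁0
    obtain ⟨q2, a2, b2⟩ := hval w₂ hw₂ hw₂0
    have q3 := (hval (w₁ + w₂) (W.add_mem hw₁ hw₂) fun e => hw₂n (by
      rw [eq_neg_of_add_eq_zero_right e]; exact Submodule.neg_mem _ (Submodule.mem_span_singleton_self _))).1
    rw [map_add_polar, q1, q2] at q3
    have hβ1 := eq_one_of_two hF hβi
    have hQa := eq_one_of_two hF hAi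
    have hQb1 := eq_one_of_two hF hB
    rcases H.minus hk h2 with hs | hmin
    · exact hF hs
    have hu : Q (al + w₁) = 0 := by rw [map_add_polar, hQa, q1, a1]; linear_combination h2
    have hv : Q (bl + w₂) = 0 := by rw [map_add_polar, hQb1, q2, b2]; linear_combination h2
    have huv : polar Q (al + w₁) (bl + w₂) = 0 := by
      rw [polar_add_left, polar_add_right, polar_add_right, hβ1, a2, polar_comm (⇑Q) w₁ bl, b1]
      linear_combination q3
    have hu0 : al + w₁ ≠ 0 := fun e => by
      have := congrArg (polar Q bl) e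
      rw [polar_add_right, b1, polar_comm, hβ1, polar_zero_right, add_zero] at this
      exact one_ne_zero this
    obtain ⟨c, hc⟩ := Submodule.mem_span_singleton.1 (hmin i _ ((D i).add_mem (H.pr_mem i a) hw₁.1) _
      ((D i).add_mem (H.pr_mem i b) hw₂.1) hu hv huv hu0)
    have := congrArg (polar Q al) hc
    rw [polar_smul_right', polar_add_right, polar_add_right, a1, a2, polar_self', h2, hβ1] at this
    simp at this
  exfalso
  refine hQb hF ?_
  rw [H.q_sum, Finset.sum_eq_add l m hml.symm (fun x _ hx => by rw [hrb x hx.1 hx.2, map_zero])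
    (fun e => absurd (Finset.mem_univ l) e) (fun e => absurd (Finset.mem_univ m) e), key l hA hβ hal,
    key m hAm hm ham, add_zero]

end Dec

end Cfsg.Agent.H96.OrthDecTwo
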