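import Cfsg.Agent.H96.OrthDecTwo.Full
import Cfsg.Agent.H96.OrthDecTwo.Four
import Cfsg.Agent.H98.OrthDecomp.Main

/-!
Maximality of the stabiliser of an orthogonal decomposition into isometric blocks, any characteristic.
-/

set_option autoImplicit false

namespace Cfsg.Agent.H96.OrthDecTwo

open QuadraticMap Module Cfsg.Agent.Orthogonal
open Cfsg.Agent.H98.SubfieldOrth
open Cfsg.Agent.H98.OrthDecomp (Wide SInF Over Goal)

section Wide

variable {F V : Type*} [Field F] [AddCommGroup V] [Module F V]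
  {Q : QuadraticForm F V} {t k : ℕ} {D : Fin t → Submodule F V} {X : Subgroup (O Q)}

namespace Dec

variable [Finite F] [FiniteDimensional F V] (H : Dec Q k D) (hX : Over D X)
include H hX

/-- A unipotent subgroup of a block cannot go to a centre outside all blocks. -/
theorem goal_of_wide {g : O Q} {i : Fin t} {u f : V} {C : Submodule F V}
    (hw : Wide D ((g : V ≃ₗ[F] V) u)) (hqu : Q u = 0) (hu : u ∈ D i) (hu0 : u ≠ 0) (hfi : f ∈ D i)
    (huf : polar Q u f = 1) (hC : C ≤ D i) (hCn : Nondeg (restr Q C)) (hCd : finrank F C + 2 = k)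
    (hCp : ∀ y ∈ C, polar Q u y = 0 ∧ polar Q f y = 0)
    (hin : ∀ w ∈ D i, polar Q u w = 0 → SInF X ((g : V ≃ₗ[F] V) u) ((g : V ≃ₗ[F] V) w)) : Goal D X := by
  set a := (g : V ≃ₗ[F] V) u with had
  have hinC : ∀ w ∈ C, SInF X a ((g : V ≃ₗ[F] V) w) := fun w hwC => hin w (hC hwC) (hCp w hwC).1
  by_cases hk : 6 ≤ k ∨ (5 ≤ k ∧ (2 : F) ≠ 0)
  · obtain ⟨⟨v, hvC⟩, hv0, hqv⟩ := hCn.exists_singular (by omega)
    rw [restr_apply] at hqv
    have hv0' : v ≠ 0 := fun e => hv0 (Subtype.ext e)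
    set b := (g : V ≃ₗ[F] V) v with hbd
    by_cases hnp : ∃ l, H.pr l b ∉ Submodule.span F {H.pr l a}
    · obtain ⟨l, hl⟩ := hnp
      exact H.goal_of_component hX hk hw (hinC v hvC) l hl
    push Not at hnp
    obtain ⟨l, hl⟩ := H.exists_pr_ne (a := a) (fun e => hw i (e ▸ Submodule.zero_mem _))
    obtain ⟨ν, hν⟩ := Submodule.mem_span_singleton.1 (hnp l)
    have hqb : Q b = 0 := by rw [hbd, O.map_app]; exact hqv
    have hb₁ : SInF X a (b + (-ν) • a) := (hinC v hvC).add_center _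
    have hq₁ : Q (b + (-ν) • a) = 0 := by
      rw [map_add_polar, qmap_smul, polar_smul_right', hqb, (hinC v hvC).singular, polar_comm,
        (hinC v hvC).orth]
      ring
    have h₁l : H.pr l (b + (-ν) • a) = 0 := by rw [map_add, map_smul, ← hν]; module
    have h₁0 : b + (-ν) • a ≠ 0 := fun e => by
      rw [hbd, had, ← map_smul, ← map_add, LinearEquiv.map_eq_zero_iff] at e
      have h1 := congrArg (polar Q f) e
      rw [polar_add_right, polar_smul_right', (hCp v hvC).2, polar_comm (⇑Q) f u, huf, polar_zero_right, zero_add,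
        mul_one] at h1
      rw [h1, zero_smul, add_zero] at e
      exact hv0' e
    by_cases hw₁ : Wide D (b + (-ν) • a)
    · refine H.goal_of_singular hX hw₁ (hb₁.swap hq₁) l (by rw [h₁l, map_zero]) ?_
      rw [h₁l, Submodule.span_singleton_eq_bot.2 rfl, Submodule.mem_bot]
      exact hl
    · simp only [Wide, not_forall, not_not] at hw₁
      obtain ⟨j, hj⟩ := hw₁
      exact ⟨j, _, a, hj, h₁0, hq₁, hw j, hb₁.swap hq₁⟩
  push Not at hk
  have h2 : (2 : F) = 0 := by
    by_contra h2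
    rcases H.hbig with h | h | h
    · omega
    · exact h2 h
    · exact h2 (hk.2 h)
  obtain ⟨w, hwC, l, hl⟩ : ∃ w ∈ C, ∃ l, H.pr l ((g : V ≃ₗ[F] V) w) ∉ Submodule.span F {H.pr l a} := by
    by_contra hc
    push Not at hc
    obtain ⟨w₁, hw₁, hw₁0⟩ := (Submodule.ne_bot_iff C).1 (fun e => by
      have := H.hk; rw [e, finrank_bot] at hCd; omega)
    obtain ⟨⟨w₂, hw₂⟩, hne⟩ := hCn.exists_polar_ne (x := ⟨w₁, hw₁⟩) (fun e => hw₁0 (congrArg Subtype.val e))
    rw [polar_restr] at hne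
    refine hne ?_
    rw [← O.polar_app g, H.polar_sum]
    refine Finset.sum_eq_zero fun j _ => ?_
    obtain ⟨c, hc1⟩ := Submodule.mem_span_singleton.1 (hc w₁ hw₁ j)
    obtain ⟨d, hd1⟩ := Submodule.mem_span_singleton.1 (hc w₂ hw₂ j)
    rw [← hc1, ← hd1, polar_smul_left', polar_smul_right', polar_self', h2, zero_mul, mul_zero, mul_zero]
  refine H.goal_of_four hX (by omega) h2 hw (hinC w hwC) (fun hF e => ?_) hl
  rw [O.map_app] at e
  rcases H.minus (by omega) h2 with hs | hmin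
  · exact hF hs
  obtain ⟨c, hc⟩ := Submodule.mem_span_singleton.1 (hmin i u hu w (hC hwC) hqu e (hCp w hwC).1 hu0)
  have h1 := congrArg (polar Q f) hc
  rw [polar_smul_right', polar_comm (⇑Q) f u, huf, mul_one, (hCp w hwC).2] at h1
  refine hl ?_
  rw [← hc, h1, zero_smul, map_zero, map_zero]
  exact Submodule.zero_mem _

end Dec

end Wide

variable {F : Type*} [Field F] [Fintype F] {ι : Type} [Fintype ι] [DecidableEq ι]
  {Q : QuadraticForm F (ι → F)} {t k : ℕ} {D : Fin t → Submodule F (ι → F)}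

theorem Dec.mem_stabilizer (H : Dec Q k D) (x : O Q)
    (h : ∀ i, ∃ j, ∀ v ∈ D i, (x : (ι → F) ≃ₗ[F] (ι → F)) v ∈ D j) :
    Cfsg.Agent.H96.om Q x ∈ Cfsg.Geo.decompositionStabilizer D := by
  choose τ hτ using h
  have hmap : ∀ i, (D i).map ((x : (ι → F) ≃ₗ[F] (ι → F)) : (ι → F) →ₗ[F] (ι → F)) = D (τ i) := fun i =>
    Submodule.eq_of_le_of_finrank_eq (by rintro _ ⟨v, hv, rfl⟩; exact hτ i v hv)
      (by rw [LinearEquiv.finrank_map_eq, H.rk, H.rk])
  have hinj : Function.Injective τ := fun i j e => by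
    by_contra hne
    have hm : D i = D j := Submodule.map_injective_of_injective
      (x : (ι → F) ≃ₗ[F] (ι → F)).injective ((hmap i).trans ((congrArg D e).trans (hmap j).symm))
    obtain ⟨v, hv, hv0⟩ := (Submodule.ne_bot_iff _).1 (H.pos i)
    exact hv0 ((H.pr_self hv).symm.trans (H.pr_other (hm ▸ hv) hne))
  refine ⟨Equiv.ofBijective τ (Finite.injective_iff_bijective.1 hinj), fun i => ?_⟩
  rw [Cfsg.Agent.H96.om_toLin']
  exact hmap i

/-- Maximality of the stabiliser of the decomposition. -/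
theorem isMaximalIn_decomp (H : Dec Q k D) :
    Cfsg.Geo.IsMaximalIn (Cfsg.Geo.omegaGL ⇑Q) (Cfsg.Geo.decompositionStabilizer D ⊓ Cfsg.Geo.omegaGL ⇑Q) := by
  have hn := H.five_le
  refine Cfsg.Agent.H98.OrthMax.isMaximalIn_omega H.nQ hn _ ?_ fun X hXS ⟨g, hgX, hgS⟩ => ?_
  · have ht := H.ht
    set i : Fin t := ⟨0, by omega⟩
    set j : Fin t := ⟨1, by omega⟩
    have hij : i ≠ j := by simp [i, j]
    obtain ⟨u, hu, hu0, hqu⟩ := H.exists_sing i
    obtain ⟨v, hv, hv0⟩ := (Submodule.ne_bot_iff _).1 (H.pos j)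
    obtain ⟨f, hfi, hf, huf, -⟩ := exists_hyp_at H.nQ (H.nd i) hu hu0 hqu
    have huv : polar Q u v = 0 := H.orth i j hij u hu v hv
    refine ⟨sie u v hqu huv, Cfsg.Agent.H98.OrthMax.sie_mem_commutator H.nQ hn hqu huv, fun hS => ?_⟩
    obtain ⟨τ, hτ⟩ := hS
    have hm : (sie u v hqu huv : (ι → F) ≃ₗ[F] (ι → F)) f ∈ D (τ i) := by
      rw [← hτ i, Cfsg.Agent.H96.om_toLin']; exact Submodule.mem_map_of_mem hfi
    rw [sie_app, huf, one_smul, H.orth j i hij.symm v hv f hfi] at hm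
    refine H.wide_of_two hij ?_ ?_ (τ i) hm
    · rw [map_sub, map_add, map_smul, H.pr_self hfi, H.pr_self hu, H.pr_other hv hij, sub_zero]
      intro e
      refine one_ne_zero (α := F) ?_
      have := congrArg (polar Q u) e
      rwa [polar_add_right, polar_smul_right', huf, polar_self', hqu, polar_zero_right, mul_zero, mul_zero,
        add_zero] at this
    · rw [map_sub, map_add, map_smul, H.pr_other hfi hij.symm, H.pr_other hu hij.symm, H.pr_self hv, smul_zero,
        add_zero, zero_sub, neg_ne_zero]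
      exact hv0
  have hX : Over D X := ⟨fun s hs h => hXS s hs (H.mem_stabilizer s h)⟩
  by_contra hnot
  have hgoal : ¬Goal D X := fun h => hnot (H.sieGroup_le_of_goal hX h)
  refine hgS (H.mem_stabilizer g fun i => ?_)
  have key : ∀ u ∈ D i, u ≠ 0 → Q u = 0 → ∃ j, ∀ w ∈ D i, polar Q u w = 0 →
      (g : (ι → F) ≃ₗ[F] (ι → F)) w ∈ D j := by
    intro u hu hu0 hqu
    have hin : ∀ w ∈ D i, polar Q u w = 0 →
        SInF X ((g : (ι → F) ≃ₗ[F] (ι → F)) u) ((g : (ι → F) ≃ₗ[F] (ι → F)) w) :=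
      fun w hw huw => (H.sInF_block hX hu hw hqu huw hn).conj hgX
    by_cases hw : Wide D ((g : (ι → F) ≃ₗ[F] (ι → F)) u)
    · exfalso
      obtain ⟨f, hfi, -, huf, C, hC, hCn, hCd, hCp, -⟩ := exists_hyp_at H.nQ (H.nd i) hu hu0 hqu
      refine hgoal (H.goal_of_wide hX hw hqu hu hu0 hfi huf hC hCn ?_ hCp hin)
      rw [H.rk] at hCd
      omega
    · simp only [Wide, not_forall, not_not] at hw
      obtain ⟨j, hj⟩ := hw
      refine ⟨j, fun w hwi huw => ?_⟩
      by_contra hc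
      exact hgoal ⟨j, _, _, hj, fun e => hu0 ((g : (ι → F) ≃ₗ[F] (ι → F)).map_eq_zero_iff.1 e),
        by rw [O.map_app]; exact hqu, hc, hin w hwi huw⟩
  obtain ⟨u₀, hu₀, hu₀0, hq₀⟩ := H.exists_sing i
  obtain ⟨j₀, hj₀⟩ := key u₀ hu₀ hu₀0 hq₀
  refine ⟨j₀, fun v hv => ?_⟩
  have hle : D i ≤ (D j₀).comap ((g : (ι → F) ≃ₗ[F] (ι → F)) : (ι → F) →ₗ[F] (ι → F)) := by
    refine le_of_singular (H.nd i) (by rw [H.rk]; have := H.hk; omega) _ fun u hu hqu => ?_
    rcases eq_or_ne u 0 with rfl | hu0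
    · exact Submodule.zero_mem _
    obtain ⟨j, hj⟩ := key u hu hu0 hqu
    have huu : polar Q u u = 0 := by rw [polar_self', hqu, mul_zero]
    suffices hjj : j = j₀ from hjj ▸ hj u hu huu
    by_contra hne
    obtain ⟨w, hwi, hw0, h1, h2⟩ : ∃ w ∈ D i, w ≠ 0 ∧ polar Q u₀ w = 0 ∧ polar Q u w = 0 := by
      obtain ⟨w, hw, hw0⟩ := (Submodule.ne_bot_iff (D i ⊓ perp Q (Submodule.span F {u₀, u}))).1 (fun e => by
        have h1 := H.nQ.finrank_add_perp (Submodule.span F ({u₀, u} : Set (ι → F)))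
        have h2 := Submodule.finrank_sup_add_finrank_inf_eq (D i) (perp Q (Submodule.span F {u₀, u}))
        have h3 : finrank F (Submodule.span F ({u₀, u} : Set (ι → F))) ≤ 2 := by
          classical
          refine (finrank_span_le_card ({u₀, u} : Set (ι → F))).trans ?_
          rw [Set.toFinset_insert, Set.toFinset_singleton]
          exact Finset.card_le_two
        rw [e, finrank_bot, H.rk] at h2
        have h4 := Submodule.finrank_le (D i ⊔ perp Q (Submodule.span F {u₀, u}))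
        have := H.hk
        omega)
      exact ⟨w, hw.1, hw0, ((mem_perp_span_pair Q).1 hw.2).1, ((mem_perp_span_pair Q).1 hw.2).2⟩
    refine hw0 ((g : (ι → F) ≃ₗ[F] (ι → F)).map_eq_zero_iff.1 ?_)
    exact (H.pr_self (hj w hwi h2)).symm.trans (H.pr_other (hj₀ w hwi h1) hne)
  exact hle hv

end Cfsg.Agent.H96.OrthDecTwo
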