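import Cfsg.Agent.H96.OrthDecTwo.Bridge
import Cfsg.Agent.H72.OrthPlanes.Main

/-!
The stabiliser of a decomposition of a space of dimension at least thirteen into isometric planes is maximal.
-/

set_option autoImplicit false

namespace Cfsg.Agent.H96.OrthDecTwo

open QuadraticMap Module Cfsg.Agent.Orthogonal

variable {F : Type*} [Field F] [Fintype F] {n : ℕ} {Q : QuadraticForm F (Fin n → F)} {t : ℕ}
  {D : Fin t → Submodule F (Fin n → F)}

/-- Maximality for isometric orthogonal decompositions into planes. -/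
theorem isMaximalIn_mdecomp_planes (hn : 13 ≤ n) (hQ : Nondeg Q)
    (hD : Cfsg.Geo.IsOrthogonalMDecomposition (⇑Q) 2 D) (h3 : Fintype.card F ≠ 3)
    (hp : (∀ i, Cfsg.Geo.IsPlusTypeOn Q (D i)) →
      Fintype.card F ≠ 2 ∧ Fintype.card F ≠ 4 ∧ Fintype.card F ≠ 5) :
    Cfsg.Geo.IsMaximalIn (Cfsg.Geo.omegaGL ⇑Q) (Cfsg.Geo.decompositionStabilizer D ⊓ Cfsg.Geo.omegaGL ⇑Q) := by
  classical
  have hM := hD.decomp.decomp
  have htk : n = t * 2 := by
    have hint : DirectSum.IsInternal D :=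
      DirectSum.isInternal_submodule_of_iSupIndep_of_iSup_eq_top hM.indep hM.iSup_eq_top
    have h := (LinearEquiv.ofBijective (DirectSum.coeLinearMap D) hint).finrank_eq
    rw [Module.finrank_directSum, Module.finrank_fin_fun] at h
    simpa [hM.finrank_eq] using h.symm
  have hnd := fun i => H98.OrthMax.nondeg_restr_of_nondegenerateOn (hD.decomp.nondegenerate i)
  refine H72.OrthPlanes.isMaximalIn_planes
    ⟨hM.finrank_eq, hnd, fun i j hij x hx y hy => hD.decomp.orthogonal i j hij x hx y hy, hD.isometric,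
      hM.iSup_eq_top, hQ⟩ (by omega) ?_
  by_cases han : ∀ i, ∀ x ∈ D i, Q x = 0 → x = 0
  · exact Or.inl ⟨han, h3⟩
  refine Or.inr ?_
  push Not at han
  obtain ⟨i, x, hx, hQx, hx0⟩ := han
  have hplus : ∀ j, Cfsg.Geo.IsPlusTypeOn Q (D j) := fun j => by
    obtain ⟨e, he⟩ := hD.isometric i j
    refine isPlusTypeOn_of_isometry hM.finrank_eq e he
      ⟨Submodule.span F {x}, (Submodule.span_singleton_le_iff_mem _ _).2 hx, fun y hy => ?_, ?_⟩
    · obtain ⟨a, rfl⟩ := Submodule.mem_span_singleton.1 hy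
      rw [qmap_smul, hQx, mul_zero]
    · rw [finrank_span_singleton hx0, hM.finrank_eq]
  obtain ⟨h2, h4, h5⟩ := hp hplus
  by_contra hlt
  have h1 := Fintype.one_lt_card (α := F)
  have h6 : Fintype.card F = 6 := by omega
  obtain ⟨p, -, hp1⟩ := isPrimePow_iff_unique_prime_dvd.1 (Fintype.isPrimePow_card_of_field (α := F))
  have e2 := hp1 2 ⟨Nat.prime_two, by omega⟩
  have e3 := hp1 3 ⟨Nat.prime_three, by omega⟩
  omega

end Cfsg.Agent.H96.OrthDecTwo
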